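import Groth.Prelude.Def_BigSite
import Groth.Agent.Lib.EtStalk.Integral

/-!
# Conditions (A), (B), (C) for integral morphisms
-/

universe u

set_option maxHeartbeats 800000

open CategoryTheory CategoryTheory.Limits AlgebraicGeometry Opposite
open Groth.Agent.EtStalk Groth.Agent.EtSite

namespace Groth.Agent.Prop24

section Generic

/-- Morphisms glue along a decomposition into disjoint open pieces. -/
theorem exists_hom_of_parts {T U : Scheme.{u}} {ι : Type u} (P : ι → T.Opens) (hP : ∀ z, ∃! i, z ∈ P i)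
    (φ : ∀ i, (P i).toScheme ⟶ U) : ∃ h : T ⟶ U, ∀ i, (P i).ι ≫ h = φ i := by
  let 𝒰 : T.OpenCover := T.openCoverOfIsOpenCover P
    (.mk (top_unique fun z _ => TopologicalSpace.Opens.mem_iSup.2 (hP z).exists))
  refine ⟨Scheme.Cover.glueMorphisms 𝒰 φ fun i j => ?_, fun i => Scheme.Cover.ι_glueMorphisms 𝒰 _ _ i⟩
  by_cases hij : i = j
  · subst hij
    haveI : Mono (𝒰.f i) := inferInstanceAs (Mono (P i).ι)
    rw [show pullback.fst (𝒰.f i) (𝒰.f i) = pullback.snd (𝒰.f i) (𝒰.f i) from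
      (cancel_mono (𝒰.f i)).1 pullback.condition]
  · haveI : IsEmpty (pullback (𝒰.f i) (𝒰.f j) : Scheme.{u}) := ⟨fun z => by
      have e := congrArg (fun r : pullback (𝒰.f i) (𝒰.f j) ⟶ T => r z) pullback.condition
      dsimp only at e
      rw [Scheme.Hom.comp_apply, Scheme.Hom.comp_apply] at e
      refine hij ((hP _).unique (show (P i).ι (pullback.fst (𝒰.f i) (𝒰.f j) z) ∈ P i from Subtype.coe_prop _) ?_)
      exact Eq.mpr (congrArg (fun t => t ∈ P j) e) (Subtype.coe_prop _)⟩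
    exact isInitialOfIsEmpty.hom_ext _ _

variable {X : Scheme.{u}} {Ω : Type u} [Field Ω] [IsSepClosed Ω] {ξ : Spec (CommRingCat.of Ω) ⟶ X}

set_option backward.isDefEq.respectTransparency.types false in
/-- Fibres of étale maps see all points. -/
theorem exists_fib_over {A B : X.Etale} (m : A ⟶ B) (b : fib ξ B) (a : A.left) (h : m.left a = fibPt b) :
    ∃ c : fib ξ A, (Scheme.pointSmallEtale ξ).fiber.map m c = b ∧ fibPt c = a := by
  have := etale_left m
  let bl : Spec (CommRingCat.of Ω) ⟶ B.left := b.left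
  obtain ⟨y, hy⟩ := Scheme.pointSmallEtaleFiberObjToPreimage_surjective bl
    (s₀ := bl default) rfl (Scheme.Etale.mk m.left) ⟨a, h⟩
  have hyl : y.left ≫ m.left = bl := Over.w y
  refine ⟨Over.homMk y.left ?_, Over.OverMorphism.ext hyl, congrArg Subtype.val hy⟩
  change y.left ≫ A.hom = ξ
  exact (congrArg (y.left ≫ ·) (MorphismProperty.Over.w m).symm).trans ((Category.assoc _ _ _).symm.trans
    ((congrArg (· ≫ B.hom) hyl).trans (Over.w b)))

end Generic

variable {X Y : Scheme.{u}} (f : X ⟶ Y)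

theorem fib_bcTop_ext {Ω : Type u} [Field Ω] [IsSepClosed Ω] {ξ : Spec (CommRingCat.of Ω) ⟶ X}
    (p q : fib ξ ((EtCoh.bc f).obj (EtCoh.top Y))) : p = q := by
  refine Over.OverMorphism.ext (pullback.hom_ext ?_ ((Over.w p).trans (Over.w q).symm))
  have hid : pullback.fst (EtCoh.top Y).hom f = pullback.snd (EtCoh.top Y).hom f ≫ f :=
    (Category.comp_id _).symm.trans pullback.condition
  refine (congrArg (_ ≫ ·) hid).trans (Eq.trans ?_ (congrArg (_ ≫ ·) hid.symm))
  exact (Category.assoc _ _ _).symm.trans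
    ((congrArg (· ≫ f) ((Over.w p).trans (Over.w q).symm)).trans (Category.assoc _ _ _))

theorem propA_of_isIntegralHom [IsIntegralHom f] : BigSite.PropA f := by
  intro U g hg u
  let A : X.Etale := Scheme.Etale.mk g
  obtain ⟨Ω, _, _, ξ, φ, hφ⟩ := exists_algFib A u
  let η := ξ ≫ f
  let l : fLifts f η := ⟨ξ, rfl⟩
  let w : fib η (EtCoh.top Y) := Over.homMk η (Category.comp_id _)
  obtain ⟨V, _, _, P, σ, -, hcl, -, b, -, hb⟩ :=
    exists_clopen_section f η w l (toBcTop f A) φ (fib_bcTop_ext f _ _)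
  let e : pullback f V.hom ⟶ pullback V.hom f := (pullbackSymmetry f V.hom).hom
  let W := e ⁻¹ᵁ P
  refine ⟨V.left, V.hom, V.prop, W, hcl.preimage e.continuous, (e ∣_ P) ≫ σ.left, ?_, ?_⟩
  · refine (Category.assoc _ _ _).trans ((congrArg ((e ∣_ P) ≫ ·) (MorphismProperty.Over.w σ)).trans ?_)
    exact (morphismRestrict_ι_assoc e P (pullback.snd V.hom f)).trans
      (congrArg (W.ι ≫ ·) (pullbackSymmetry_hom_comp_snd f V.hom))
  · haveI : IsIso (e ∣_ P) := inferInstance
    obtain ⟨z, hz⟩ := (e ∣_ P).surjective (fibPt b)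
    refine ⟨z, (Scheme.Hom.comp_apply _ _ _).trans ?_⟩
    rw [hz, ← hφ]
    have := congrArg (fun t : fib l.1 A => t.left (default : Spec (CommRingCat.of Ω))) hb
    exact (Scheme.Hom.comp_apply _ _ _).symm.trans this

theorem propB_of_isIntegralHom [IsIntegralHom f] : BigSite.PropB f := by
  intro V v hv ι U g hg hcov
  let W : Y.Etale := Scheme.Etale.mk v
  have key : ∀ y : V, ∃ (V' : Y.Etale) (q : V' ⟶ W) (μ : Type u) (P : μ → ((EtCoh.bc f).obj V').left.Opens),
      y ∈ Set.range q.left ∧ (∀ z, ∃! a, z ∈ P a) ∧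
      ∀ a, ∃ (i : ι) (h : (P a).toScheme ⟶ U i),
        h ≫ g i ≫ (pullbackSymmetry f v).hom = (P a).ι ≫ ((EtCoh.bc f).map q).left := by
    intro y
    obtain ⟨Ω, _, _, η, w, hw⟩ := exists_algFib W y
    have hl : ∀ l : fLifts f η, ∃ (i : ι) (B : X.Etale) (m : B ⟶ (EtCoh.bc f).obj W) (c : fib l.1 B)
        (eB : B.left ⟶ U i), (Scheme.pointSmallEtale l.1).fiber.map m c = liftAt f η w l ∧
        eB ≫ g i ≫ (pullbackSymmetry f v).hom = m.left := by
      intro l
      obtain ⟨i, a, ha⟩ := hcov ((pullbackSymmetry f v).inv (fibPt (liftAt f η w l)))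
      haveI := hg i
      let ml : U i ⟶ pullback v f := g i ≫ (pullbackSymmetry f v).hom
      haveI : AlgebraicGeometry.Etale (pullback.snd v f) := inferInstance
      let B : X.Etale := Scheme.Etale.mk (ml ≫ pullback.snd v f)
      let m : B ⟶ (EtCoh.bc f).obj W := MorphismProperty.Over.homMk ml rfl
      obtain ⟨c, hc, -⟩ := exists_fib_over m (liftAt f η w l) a (by
        show ml a = _
        rw [Scheme.Hom.comp_apply, ha, ← Scheme.Hom.comp_apply, Iso.inv_hom_id]
        rfl)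
      exact ⟨i, B, m, c, 𝟙 _, hc, Category.id_comp _⟩
    choose i B m c eB hc heB using hl
    have hsec := fun l => exists_clopen_section f η w l (m l) (c l) (hc l)
    choose Ul gl ul Pl σl hgl hcl hσ hb using hsec
    have hmem : ∀ l, fibPt (liftAt f η (ul l) l) ∈ Pl l := fun l => by
      obtain ⟨b, hb1, -⟩ := hb l
      rw [← hb1]
      exact fibPt_mem_of_sub b
    obtain ⟨V', q, u', μ, k, qk, P, hqu, hqk, -, hP, hle⟩ :=
      exists_partition f η w gl ul Pl hgl hcl hmem
    refine ⟨V', q, μ, P, ⟨fibPt u', ?_⟩, hP, fun a => ⟨i (k a),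
      (subMap ((EtCoh.bc f).map (qk a)) (P a) (Pl (k a)) (hle a) ≫ σl (k a)).left ≫ eB (k a), ?_⟩⟩
    · rw [← hw, ← hqu]
      exact (Scheme.Hom.comp_apply _ _ _).symm
    · refine (Category.assoc _ _ _).trans ((congrArg (_ ≫ ·) (heB (k a))).trans ?_)
      have e1 : subMap ((EtCoh.bc f).map (qk a)) (P a) (Pl (k a)) (hle a) ≫ σl (k a) ≫ m (k a) =
          subHom _ (P a) ≫ (EtCoh.bc f).map q := by
        rw [hσ, ← Category.assoc, subMap_subHom, Category.assoc, ← Functor.map_comp, hqk]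
      exact congrArg (fun t => t.left) ((Category.assoc _ _ _).trans e1)
  choose V' q μ P hy hP hfac using key
  refine ⟨V, fun y => (V' y).left, fun y => (q y).left, fun y => etale_left (q y),
    fun y => ⟨y, hy y⟩, fun y => ?_⟩
  let e : pullback f ((q y).left ≫ v) ⟶ ((EtCoh.bc f).obj (V' y)).left :=
    pullback.lift (pullback.snd f ((q y).left ≫ v)) (pullback.fst f ((q y).left ≫ v)) (by
      rw [pullback.condition]
      exact congrArg (pullback.snd f ((q y).left ≫ v) ≫ ·) (MorphismProperty.Over.w (q y)).symm)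
  refine ⟨μ y, fun a => e ⁻¹ᵁ P y a, fun a b hab => ?_, ?_, fun a => ?_⟩
  · rw [disjoint_iff_inf_le]
    exact fun z hz => absurd ((hP y (e z)).unique hz.1 hz.2) hab
  · refine eq_top_iff.2 fun z _ => ?_
    obtain ⟨a, ha, -⟩ := hP y (e z)
    exact TopologicalSpace.Opens.mem_iSup.2 ⟨a, ha⟩
  · obtain ⟨i, h, hh⟩ := hfac y a
    refine ⟨i, (e ∣_ P y a) ≫ h, (cancel_mono (pullbackSymmetry f v).hom).1 ?_⟩
    simp only [Category.assoc]
    rw [hh]
    refine (morphismRestrict_ι_assoc e (P y a) _).trans ?_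
    refine congrArg ((e ⁻¹ᵁ P y a).ι ≫ ·) ?_
    refine pullback.hom_ext ?_ ?_
    · refine (Category.assoc _ _ _).trans ((congrArg (e ≫ ·) (bcFst_nat f (q y))).trans ?_)
      refine (Category.assoc _ _ _).symm.trans ((congrArg (· ≫ (q y).left) (pullback.lift_fst _ _ _)).trans ?_)
      refine Eq.symm ((Category.assoc _ _ _).trans ((congrArg (_ ≫ ·) (pullbackSymmetry_hom_comp_fst f v)).trans ?_))
      exact pullback.lift_snd _ _ _
    · refine (Category.assoc _ _ _).trans
        ((congrArg (e ≫ ·) (MorphismProperty.Over.w ((EtCoh.bc f).map (q y)))).trans ?_)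
      refine (pullback.lift_snd _ _ _).trans ?_
      refine Eq.symm ((Category.assoc _ _ _).trans ((congrArg (_ ≫ ·) (pullbackSymmetry_hom_comp_snd f v)).trans ?_))
      exact (pullback.lift_fst _ _ _).trans (Category.comp_id _)

theorem exists_propC_point [IsIntegralHom f] (hinj : Function.Injective f) {U : Scheme.{u}} (g : U ⟶ X)
    [AlgebraicGeometry.Etale g] (u : U) :
    ∃ (V : Scheme.{u}) (v : V ⟶ Y) (_ : AlgebraicGeometry.Etale v) (h : pullback f v ⟶ U),
      h ≫ g = pullback.fst f v ∧ u ∈ Set.range h := by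
  let A : X.Etale := Scheme.Etale.mk g
  obtain ⟨Ω, _, _, ξ, φ, hφ⟩ := exists_algFib A u
  let η := ξ ≫ f
  let l₀ : fLifts f η := ⟨ξ, rfl⟩
  let w : fib η (EtCoh.top Y) := Over.homMk η (Category.comp_id _)
  have hg : g u = ξ default := by
    rw [← hφ]
    exact (Scheme.Hom.comp_apply _ _ _).symm.trans
      (congrArg (fun r : Spec (CommRingCat.of Ω) ⟶ X => r default) (Over.w φ))
  have hl : ∀ l : fLifts f η, ∃ c : fib l.1 A, fibPt c = u := fun l => by
    have hx : g u = l.1 default := hg.trans (hinj (by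
      rw [← Scheme.Hom.comp_apply, ← Scheme.Hom.comp_apply, l.2]))
    obtain ⟨c, hc⟩ := Scheme.pointSmallEtaleFiberObjToPreimage_surjective l.1 (s₀ := l.1 default) rfl A ⟨u, hx⟩
    exact ⟨c, congrArg Subtype.val hc⟩
  choose c hcu using hl
  have hsec := fun l => exists_clopen_section f η w l (toBcTop f A) (c l) (fib_bcTop_ext f _ _)
  choose Ul gl ul Pl σl hgl hcl hσ hb using hsec
  choose b hb1 hb2 using hb
  have hmem : ∀ l, fibPt (liftAt f η (ul l) l) ∈ Pl l := fun l => by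
    rw [← hb1 l]
    exact fibPt_mem_of_sub (b l)
  obtain ⟨V₁, q₁, u₁, μ, k, qk, P, hqu, hqk, hqu', hP, hle⟩ :=
    exists_partition f η w gl ul Pl hgl hcl hmem
  obtain ⟨V', r₁, r₀, u', -, hr₁, hr₀⟩ := exists_common η q₁ (gl l₀) u₁ (ul l₀) hqu (hgl l₀)
  let R₁ := (EtCoh.bc f).map r₁
  let R₀ := (EtCoh.bc f).map r₀
  let Q₀ : ((EtCoh.bc f).obj V').left.Opens := R₀.left ⁻¹ᵁ Pl l₀
  let N : ((EtCoh.bc f).obj V').left.Opens :=
    ⟨(Q₀ : Set ((EtCoh.bc f).obj V').left)ᶜ, ((hcl l₀).preimage R₀.left.continuous).isOpen_compl⟩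
  let Q : Option μ → ((EtCoh.bc f).obj V').left.Opens
    | none => Q₀
    | some a => R₁.left ⁻¹ᵁ P a ⊓ N
  have hQ : ∀ z, ∃! a, z ∈ Q a := fun z => by
    by_cases hz : z ∈ Q₀
    · refine ⟨none, hz, fun a ha => ?_⟩
      cases a with
      | none => rfl
      | some a => exact absurd hz ha.2
    · obtain ⟨a, ha, huq⟩ := hP (R₁.left z)
      refine ⟨some a, ⟨ha, hz⟩, fun a' ha' => ?_⟩
      cases a' with
      | none => exact absurd ha' hz
      | some a' => rw [huq a' ha'.1]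
  let ψ : ∀ a, sub ((EtCoh.bc f).obj V') (Q a) ⟶ A
    | none => subMap R₀ Q₀ (Pl l₀) le_rfl ≫ σl l₀
    | some a => subMap R₁ (R₁.left ⁻¹ᵁ P a ⊓ N) (P a) inf_le_left ≫
        subMap ((EtCoh.bc f).map (qk a)) (P a) (Pl (k a)) (hle a) ≫ σl (k a)
  obtain ⟨H, hH⟩ := exists_hom_of_parts Q hQ fun a => (ψ a).left
  let e : pullback f V'.hom ⟶ pullback V'.hom f := (pullbackSymmetry f V'.hom).hom
  refine ⟨V'.left, V'.hom, V'.prop, e ≫ H, ?_, ?_⟩
  · have hHg : H ≫ g = pullback.snd V'.hom f := by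
      let 𝒰 : (pullback V'.hom f : Scheme.{u}).OpenCover := Scheme.openCoverOfIsOpenCover _ Q
        (.mk (top_unique fun z _ => TopologicalSpace.Opens.mem_iSup.2 (hQ z).exists))
      refine Scheme.Cover.hom_ext 𝒰 _ _ fun a => ?_
      show (Q a).ι ≫ H ≫ g = _
      rw [← Category.assoc, hH]
      exact MorphismProperty.Over.w (ψ a)
    exact (Category.assoc _ _ _).trans
      ((congrArg (e ≫ ·) hHg).trans (pullbackSymmetry_hom_comp_snd _ _))
  · -- the point over `u`
    have hin : fibPt (liftAt f η u' l₀) ∈ Q₀ := by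
      show R₀.left (fibPt (liftAt f η u' l₀)) ∈ Pl l₀
      have := hmem l₀
      rw [← hr₀, ← liftAt_map] at this
      exact Eq.mp (congrArg (· ∈ Pl l₀) (Scheme.Hom.comp_apply _ _ _)) this
    let b' : fib l₀.1 (sub ((EtCoh.bc f).obj V') Q₀) := subFib (liftAt f η u' l₀) Q₀ hin
    have hb' : (Scheme.pointSmallEtale l₀.1).fiber.map (subMap R₀ Q₀ (Pl l₀) le_rfl) b' = b l₀ := by
      refine fib_sub_ext _ _ ?_
      rw [hb1, ← hr₀, ← liftAt_map]
      refine Eq.trans ?_ (congrArg _ (subFib_map (liftAt f η u' l₀) Q₀ hin))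
      rw [← Functor.map_comp_apply, subMap_subHom, Functor.map_comp_apply]
    obtain ⟨z, hz⟩ := e.surjective (Q₀.ι (fibPt b'))
    refine ⟨z, (Scheme.Hom.comp_apply _ _ _).trans ?_⟩
    refine (congrArg H hz).trans ((Scheme.Hom.comp_apply _ _ _).symm.trans ?_)
    refine (congrArg (fun r : Q₀.toScheme ⟶ U => r (fibPt b')) (hH none)).trans ?_
    have hc := hb2 l₀
    rw [← hb', ← Functor.map_comp_apply] at hc
    rw [← hcu l₀, ← hc]
    exact (Scheme.Hom.comp_apply _ _ _).symm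

theorem propC_of_isIntegralHom [IsIntegralHom f] (hinj : Function.Injective f) : BigSite.PropC f := by
  intro U g hg
  choose V v hv h hh hu using exists_propC_point f hinj g
  let S := ∐ V
  let vS : S ⟶ Y := Sigma.desc v
  have hvS : AlgebraicGeometry.Etale vS :=
    IsZariskiLocalAtSource.sigmaDesc (fun u => hv u)
  refine ⟨S, vS, hvS, ?_⟩
  let E : ∀ u, pullback f (v u) ⟶ pullback f vS := fun u =>
    pullback.map f (v u) f vS (𝟙 X) (Sigma.ι V u) (𝟙 Y) (by simp) (by simp [vS])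
  let P : U → (pullback f vS).Opens := fun u => pullback.snd f vS ⁻¹ᵁ (Sigma.ι V u).opensRange
  have hP : ∀ z, ∃! u, z ∈ P u := fun z => by
    obtain ⟨u, x, hx⟩ := (sigmaOpenCover V).exists_eq (pullback.snd f vS z)
    refine ⟨u, ⟨x, hx⟩, fun u' hu' => ?_⟩
    obtain ⟨x', hx'⟩ := hu'
    by_contra hne
    exact (disjoint_opensRange_sigmaι V u' u hne).le_bot ⟨⟨x', hx'⟩, ⟨x, hx⟩⟩
  have hE : ∀ u, IsPullback (E u) (pullback.snd f (v u)) (pullback.snd f vS) (Sigma.ι V u) := fun u => by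
    refine IsPullback.of_right (h₁₂ := pullback.fst f vS) (h₂₂ := vS) (v₁₃ := f) ?_
      (pullback.lift_snd _ _ _) (IsPullback.of_hasPullback f vS)
    rw [show E u ≫ pullback.fst f vS = pullback.fst f (v u) from (pullback.lift_fst _ _ _).trans (Category.comp_id _),
      show Sigma.ι V u ≫ vS = v u from Sigma.ι_desc _ _]
    exact IsPullback.of_hasPullback f (v u)
  haveI : ∀ u, IsOpenImmersion (E u) := fun u =>
    MorphismProperty.of_isPullback (P := @IsOpenImmersion) (hE u).flip inferInstance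
  have hr : ∀ u, Set.range (P u).ι = Set.range (E u) := fun u => by
    rw [(P u).range_ι]
    ext z
    constructor
    · rintro ⟨x, hx⟩
      obtain ⟨p, hp, -⟩ := Scheme.exists_preimage_of_isPullback (hE u) z x hx.symm
      exact ⟨p, hp⟩
    · rintro ⟨p, rfl⟩
      refine ⟨pullback.snd f (v u) p, ?_⟩
      rw [← Scheme.Hom.comp_apply, ← (hE u).w, Scheme.Hom.comp_apply]
  let φ : ∀ u, (P u).toScheme ⟶ U := fun u =>
    IsOpenImmersion.lift (E u) (P u).ι (hr u).le ≫ h u
  obtain ⟨H, hH⟩ := exists_hom_of_parts P hP φ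
  refine ⟨H, ?_, ⟨fun u => ?_⟩⟩
  · let 𝒰 : (pullback f vS : Scheme.{u}).OpenCover := Scheme.openCoverOfIsOpenCover _ P
      (.mk (top_unique fun z _ => TopologicalSpace.Opens.mem_iSup.2 (hP z).exists))
    refine Scheme.Cover.hom_ext 𝒰 _ _ fun u => ?_
    show (P u).ι ≫ H ≫ g = _
    rw [← Category.assoc, hH]
    simp only [φ, Category.assoc]
    rw [hh, show pullback.fst f (v u) = E u ≫ pullback.fst f vS from ((pullback.lift_fst _ _ _).trans (Category.comp_id _)).symm,
      IsOpenImmersion.lift_fac_assoc]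
    rfl
  · obtain ⟨p, hp⟩ := hu u
    obtain ⟨q, hq⟩ := (hr u).ge ⟨p, rfl⟩
    refine ⟨E u p, ?_⟩
    rw [← hq, ← Scheme.Hom.comp_apply, hH]
    simp only [φ, Scheme.Hom.comp_apply]
    refine (congrArg (h u) ((E u).isOpenEmbedding.injective ?_)).trans hp
    rw [← hq, ← Scheme.Hom.comp_apply, IsOpenImmersion.lift_fac]

end Groth.Agent.Prop24
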