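import Groth.Prelude.Def_BigSite
import Groth.Agent.Lib.EtShriek24.Stalk

/-!
# Condition (A) for separated locally quasi-finite morphisms
-/

universe u

set_option maxHeartbeats 800000

open CategoryTheory CategoryTheory.Limits AlgebraicGeometry Opposite
open Groth.Agent.EtStalk Groth.Agent.EtSite Groth.Agent.Weight

namespace Groth.Agent.Prop24

theorem propA_of_separated_lqf {X Y : Scheme.{u}} (f : X ⟶ Y) [IsSeparated f] [LocallyOfFiniteType f]
    [LocallyQuasiFinite f] : BigSite.PropA f := by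
  intro A gA hgA u
  haveI := hgA
  obtain ⟨Ω, _, _, ξ, φ, hφ⟩ := exists_algFib (Scheme.Etale.mk gA) u
  obtain ⟨U, g, ū, W, hg, hū, hWfin, hW⟩ := exists_split_one f ξ (f.quasiFiniteAt _)
  haveI := hg
  haveI := hWfin
  let p := W.ι ≫ pullback.snd f g
  let r : W.toScheme ⟶ X := W.ι ≫ pullback.fst f g
  obtain ⟨b₁, hb₁f, hb₁s, hb₁W⟩ := inLift_iff.1 ((hW ξ).2 rfl)
  let a : Spec (CommRingCat.of Ω) ⟶ W.toScheme := liftOpen W b₁ hb₁W
  have hap : a ≫ p = ū := by
    show a ≫ W.ι ≫ _ = _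
    rw [← Category.assoc, liftOpen_ι, hb₁s]
  have har : a ≫ r = ξ := by
    show a ≫ W.ι ≫ _ = _
    rw [← Category.assoc, liftOpen_ι, hb₁f]
  have huniq : ∀ b : Spec (CommRingCat.of Ω) ⟶ W.toScheme, b ≫ p = a ≫ p → b = a := fun b hb => by
    rw [hap] at hb
    have h2 : (b ≫ W.ι) ≫ pullback.snd f g = ū := (Category.assoc _ _ _).trans hb
    have h3 := (hW ((b ≫ W.ι) ≫ pullback.fst f g)).1
      (inLift_iff.2 ⟨b ≫ W.ι, rfl, h2, (b (IsLocalRing.closedPoint Ω)).2⟩)
    rw [← cancel_mono W.ι, liftOpen_ι]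
    exact pullback.hom_ext (h3.trans hb₁f.symm) (h2.trans hb₁s.symm)
  let φl : Spec (CommRingCat.of Ω) ⟶ A := φ.left
  have hφl : φl ≫ gA = a ≫ r := (Over.w φ).trans har.symm
  obtain ⟨U', h, ū', σ, hh, hū', hσ, hσc⟩ := FiniteSplit.exists_section p a huniq
    (pullback.snd gA r) (pullback.lift φl a hφl) (pullback.lift_snd _ _ _)
  haveI := hh
  rw [hap] at hū'
  let H := IsPullback.of_hasPullback f g
  let H' := IsPullback.of_hasPullback f (h ≫ g)
  let m := bcMap H H' h rfl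
  let O := m ⁻¹ᵁ W
  haveI : IsFinite (O.ι ≫ pullback.snd f (h ≫ g)) := isFinite_preimage H H' h rfl W
  haveI : IsFinite O.ι := IsFinite.of_comp O.ι (pullback.snd f (h ≫ g))
  have hOcl : IsClosed (O : Set (pullback f (h ≫ g) : Scheme.{u})) := by
    rw [← O.range_ι]; exact O.ι.isClosedMap.isClosed_range
  let τ : O.toScheme ⟶ pullback p h :=
    pullback.lift (m ∣_ W) (O.ι ≫ pullback.snd f (h ≫ g)) (by
      show (m ∣_ W) ≫ W.ι ≫ _ = _
      rw [← Category.assoc, morphismRestrict_ι, Category.assoc, bcMap_snd, Category.assoc])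
  refine ⟨U', h ≫ g, inferInstance, O, hOcl, τ ≫ σ ≫ pullback.fst gA r, ?_, ?_⟩
  · rw [Category.assoc, Category.assoc, pullback.condition, ← Category.assoc σ, hσ,
      ← Category.assoc, pullback.lift_fst]
    show (m ∣_ W) ≫ W.ι ≫ _ = _
    rw [← Category.assoc, morphismRestrict_ι, Category.assoc, bcMap_fst]
  · have := (inLift_preimage_iff H H' h rfl W ū' ξ).2 (by rw [hū']; exact (hW _).2 rfl)
    obtain ⟨b, hb1, hb2, hb3⟩ := inLift_iff.1 this
    let c : Spec (CommRingCat.of Ω) ⟶ O.toScheme := liftOpen O b hb3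
    have hcA : (c ≫ τ) ≫ pullback.snd p h = ū' := by
      rw [Category.assoc, pullback.lift_snd, ← Category.assoc, liftOpen_ι, hb2]
    refine ⟨c default, ?_⟩
    rw [← hφ]
    refine (Scheme.Hom.comp_apply _ _ _).symm.trans ?_
    rw [← Category.assoc c, ← Category.assoc (c ≫ τ), hσc _ hcA, pullback.lift_fst]
    rfl

end Groth.Agent.Prop24
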