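import Groth.Agent.Lib.Prop24.Integral
import Groth.Agent.Lib.EtStalk.Sets.Basic
import Groth.Prelude.Def_SGA4b

/-!
# Consequences of conditions (A), (B), (C) for direct images
-/

universe u

set_option maxHeartbeats 800000

open CategoryTheory CategoryTheory.Limits AlgebraicGeometry Opposite
open Groth.Agent.EtStalk Groth.Agent.EtSite

namespace Groth.Agent.Prop24

theorem range_comp_hom {A B C : Scheme.{u}} (i : A ⟶ B) (p : B ⟶ C) :
    Set.range (i ≫ p) = p '' Set.range i := by
  rw [← Set.range_comp]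
  exact congrArg Set.range (funext fun a => Scheme.Hom.comp_apply i p a)

variable {X Y : Scheme.{u}} (f : X ⟶ Y)

section Translate

/-- The comparison of the two models of a base change. -/
noncomputable abbrev swapHom (V : Y.Etale) : ((EtCoh.bc f).obj V).left ⟶ pullback f V.hom :=
  (pullbackSymmetry V.hom f).hom

theorem swapHom_fst (V : Y.Etale) :
    swapHom f V ≫ pullback.fst f V.hom = pullback.snd V.hom f := pullbackSymmetry_hom_comp_fst _ _

/-- An open piece of a base change mapping to an étale scheme. -/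
noncomputable def pieceHom {V : Y.Etale} (A : X.Etale) (W : (pullback f V.hom).Opens)
    (h : W.toScheme ⟶ A.left) (hh : h ≫ A.hom = W.ι ≫ pullback.fst f V.hom) :
    sub ((EtCoh.bc f).obj V) (swapHom f V ⁻¹ᵁ W) ⟶ A :=
  MorphismProperty.Over.homMk ((swapHom f V ∣_ W) ≫ h) (by
    refine (Category.assoc _ _ _).trans ((congrArg (_ ≫ ·) hh).trans ?_)
    refine (morphismRestrict_ι_assoc _ W _).trans ?_
    exact congrArg ((swapHom f V ⁻¹ᵁ W).ι ≫ ·) (swapHom_fst f V))

end Translate

theorem exists_clopen_of_propA (hA : BigSite.PropA f) (A : X.Etale) (x : A.left) :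
    ∃ (V : Y.Etale) (P : ((EtCoh.bc f).obj V).left.Opens) (k : sub ((EtCoh.bc f).obj V) P ⟶ A),
      IsClosed (P : Set ((EtCoh.bc f).obj V).left) ∧ x ∈ Set.range k.left := by
  haveI : AlgebraicGeometry.Etale A.hom := A.prop
  obtain ⟨V, v, hv, W, hW, h, hh, z, hz⟩ := hA A.left A.hom x
  haveI : IsIso (pullbackSymmetry v f).hom := inferInstance
  refine ⟨Scheme.Etale.mk v, swapHom f (Scheme.Etale.mk v) ⁻¹ᵁ W, pieceHom f (V := Scheme.Etale.mk v) A W h hh, ?_, ?_⟩
  · exact hW.preimage (swapHom f (Scheme.Etale.mk v)).continuous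
  haveI : IsIso (swapHom f (Scheme.Etale.mk v) ∣_ W) := inferInstance
  obtain ⟨z', hz'⟩ := (swapHom f (Scheme.Etale.mk v) ∣_ W).surjective z
  exact ⟨z', (Scheme.Hom.comp_apply _ _ _).trans ((congrArg h hz').trans hz)⟩

theorem faithful_push_of_propA (hA : BigSite.PropA f) : (EtCoh.push f).Faithful := by
  refine ⟨fun {F G α β} he => ?_⟩
  refine Sheaf.hom_ext (NatTrans.ext (funext fun A => AddCommGrpCat.ext fun s => eq_of_agree G fun x => ?_))
  obtain ⟨V, P, k, hP, hx⟩ := exists_clopen_of_propA f hA A.unop x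
  let B := (EtCoh.bc f).obj V
  let Q : ULift.{u} Bool → B.left.Opens := fun b => if b.down then P else ⟨_, hP.isOpen_compl⟩
  have hQ : ∀ z, ∃! l, z ∈ Q l := fun z => by
    by_cases hz : z ∈ P
    · refine ⟨⟨true⟩, hz, ?_⟩
      rintro ⟨b⟩ hb
      cases b
      · exact absurd hz hb
      · rfl
    · refine ⟨⟨false⟩, hz, ?_⟩
      rintro ⟨b⟩ hb
      cases b
      · rfl
      · exact absurd hb hz
  let σ : ∀ l, F.obj.obj (op (sub B (Q l))) := fun l =>
    match l with
    | ⟨true⟩ => F.obj.map k.op s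
    | ⟨false⟩ => 0
  obtain ⟨S, hS, -⟩ := existsUnique_glue_parts F B Q hQ σ
  obtain ⟨z, hz⟩ := hx
  refine ⟨sub B P, k, ⟨z, hz⟩, ?_⟩
  have h1 : α.hom.app (op B) S = β.hom.app (op B) S :=
    ConcreteCategory.congr_hom (congrArg
      (fun t : (EtCoh.push f).obj F ⟶ (EtCoh.push f).obj G => t.hom.app (op V)) he) S
  have hT : F.obj.map (subHom B P).op S = F.obj.map k.op s := hS ⟨true⟩
  have h2 := congrArg (G.obj.map (subHom B P).op) h1
  rw [← NatTrans.naturality_apply, ← NatTrans.naturality_apply, hT] at h2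
  exact (NatTrans.naturality_apply α.hom k.op s).symm.trans (h2.trans (NatTrans.naturality_apply β.hom k.op s))

theorem push_reflects_of_propA (hA : BigSite.PropA f) :
    (EtCoh.push f).ReflectsMonomorphisms ∧ (EtCoh.push f).ReflectsEpimorphisms ∧
      (∀ F : EtCoh.Ab X, Epi ((EtCoh.pullPushAdj f).counit.app F)) ∧ (EtCoh.push f).Faithful := by
  haveI := faithful_push_of_propA f hA
  exact ⟨inferInstance, inferInstance, fun F => (EtCoh.pullPushAdj f).counit_epi_of_R_faithful F, inferInstance⟩

/-- The form of condition (C) on the small étale sites. -/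
theorem exists_surj_of_propC (hC : BigSite.PropC f) (A : X.Etale) :
    ∃ (V : Y.Etale) (k : (EtCoh.bc f).obj V ⟶ A), Function.Surjective k.left := by
  haveI : AlgebraicGeometry.Etale A.hom := A.prop
  obtain ⟨V, v, hv, h, hh, hs⟩ := hC A.left A.hom
  refine ⟨Scheme.Etale.mk v, MorphismProperty.Over.homMk (swapHom f (Scheme.Etale.mk v) ≫ h) ?_, ?_⟩
  · refine (Category.assoc _ _ _).trans ((congrArg (_ ≫ ·) hh).trans ?_)
    exact swapHom_fst f (Scheme.Etale.mk v)
  · intro a
    obtain ⟨z, hz⟩ := h.surjective a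
    haveI : IsIso (swapHom f (Scheme.Etale.mk v)) := inferInstance
    obtain ⟨z', hz'⟩ := (swapHom f (Scheme.Etale.mk v)).surjective z
    exact ⟨z', (Scheme.Hom.comp_apply _ _ _).trans ((congrArg h hz').trans hz)⟩

/-- A morphism of étale schemes hitting every point is injective on sections. -/
theorem map_injective_of_surjective {F : EtDesc.Sh X} {A B : X.Etale} (k : A ⟶ B)
    (hk : Function.Surjective k.left) : Function.Injective (F.obj.map k.op) := by
  intro s t h
  refine Sets.ext_germ s t fun Ω _ _ ξ b => ?_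
  obtain ⟨a, ha⟩ := hk (fibPt b)
  obtain ⟨c, hc, -⟩ := exists_fib_over k b a ha
  rw [← hc, ← Sets.germ_map, ← Sets.germ_map, h]

theorem pushSh_reflects_of_propC (hC : BigSite.PropC f) :
    (EtDesc.pushSh f).ReflectsMonomorphisms ∧ (EtDesc.pushSh f).ReflectsEpimorphisms := by
  constructor
  · refine ⟨fun {F G} α hα => (Sets.mono_iff_app_injective α).2 fun A s t hst => ?_⟩
    obtain ⟨V, k, hk⟩ := exists_surj_of_propC f hC A.unop
    refine map_injective_of_surjective k hk ?_
    refine (Sets.mono_iff_app_injective _).1 hα (op V) ?_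
    show α.hom.app (op ((EtCoh.bc f).obj V)) (F.obj.map k.op s) =
      α.hom.app (op ((EtCoh.bc f).obj V)) (F.obj.map k.op t)
    rw [NatTrans.naturality_apply, NatTrans.naturality_apply, hst]
  · refine ⟨fun {F G} α hα => ?_⟩
    rw [← Sheaf.isLocallySurjective_iff_epi']
    refine ⟨fun {A} s => ?_⟩
    rw [EtSite.mem_et_iff]
    intro x
    obtain ⟨V, k, hk⟩ := exists_surj_of_propC f hC A
    obtain ⟨z, hz⟩ := hk x
    haveI := (Sheaf.isLocallySurjective_iff_epi' _ _).2 hα
    have hcov := Presheaf.imageSieve_mem Y.smallEtaleTopology ((EtDesc.pushSh f).map α).hom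
      (U := op V) (G.obj.map k.op s)
    rw [EtSite.mem_et_iff] at hcov
    obtain ⟨V', g, w, hg, hw⟩ := hcov (pullback.fst V.hom f z)
    obtain ⟨z', hz', -⟩ := Scheme.exists_preimage_of_isPullback (EtCoh.isPullback_bc_map f g) z w hw.symm
    obtain ⟨t, ht⟩ := hg
    refine ⟨(EtCoh.bc f).obj V', (EtCoh.bc f).map g ≫ k, z', ⟨t, ?_⟩, ?_⟩
    · rw [op_comp, Functor.map_comp_apply]
      exact ht
    · exact (Scheme.Hom.comp_apply _ _ _).trans ((congrArg k.left hz').trans hz)

/-- Sections of a sheaf of sets glue along a decomposition. -/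
theorem exists_glue_parts_sh (F : EtDesc.Sh X) (U : X.Etale) {ι : Type u} (P : ι → U.left.Opens)
    (hP : ∀ z, ∃! l, z ∈ P l) (s : ∀ l, F.obj.obj (op (sub U (P l)))) :
    ∃ t : F.obj.obj (op U), ∀ l, F.obj.map (subHom U (P l)).op t = s l := by
  have hsh := (Presieve.isSheafFor_iff_generate _).2
    (((isSheaf_iff_isSheaf_of_type _ _).1
      ((Presheaf.isSheaf_iff_isSheaf_forget _ F.obj (forget _)).1 F.property)) _
        (generate_parts_mem U P fun z => (hP z).exists))
  rw [Presieve.isSheafFor_arrows_iff] at hsh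
  obtain ⟨t, ht, -⟩ := hsh s fun i j Z gi gj h => by
    by_cases hij : i = j
    · subst hij
      haveI := mono_subHom U (P i)
      rw [(cancel_mono (subHom U (P i))).1 h]
    · have : IsEmpty Z.left := ⟨fun z => hij ((hP ((P i).ι (gi.left z))).unique (gi.left z).2 (by
        rw [show (P i).ι (gi.left z) = (P j).ι (gj.left z) from
          (Scheme.Hom.comp_apply _ _ _).symm.trans
            ((congrArg (fun t : Z.left ⟶ U.left => t z) (congrArg (fun t => t.left) h)).trans
              (Scheme.Hom.comp_apply _ _ _))]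
        exact (gj.left z).2))⟩
      exact Sets.ext_germ _ _ fun Ω _ _ ξ v => isEmptyElim (fibPt v)
  exact ⟨t, ht⟩

theorem pushSh_preservesEpimorphisms_of_propB (hB : BigSite.PropB f) :
    (EtDesc.pushSh f).PreservesEpimorphisms := by
  refine ⟨fun {F G} α hα => ?_⟩
  haveI := (Sheaf.isLocallySurjective_iff_epi' _ α).2 hα
  rw [← Sheaf.isLocallySurjective_iff_epi']
  refine ⟨fun {V} s => ?_⟩
  rw [EtSite.mem_et_iff]
  let B := (EtCoh.bc f).obj V
  have hcov := Presheaf.imageSieve_mem X.smallEtaleTopology α.hom (U := op B) s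
  rw [EtSite.mem_et_iff] at hcov
  choose D d w hd hw using hcov
  choose t ht using hd
  haveI : AlgebraicGeometry.Etale V.hom := V.prop
  obtain ⟨κ, V', v', hv', hcov', hdec⟩ := hB V.left V.hom B.left (fun x => (D x).left)
    (fun x => (d x).left ≫ swapHom f V)
    (fun x => by
      haveI := etale_left (d x)
      haveI : IsIso (swapHom f V) := inferInstance
      infer_instance)
    (fun y => by
      haveI : IsIso (swapHom f V) := inferInstance
      obtain ⟨x, hx⟩ := (swapHom f V).surjective y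
      exact ⟨x, w x, (Scheme.Hom.comp_apply _ _ _).trans ((congrArg _ (hw x)).trans hx)⟩)
  intro y
  obtain ⟨j, w', hw'⟩ := hcov' y
  haveI := hv' j
  let V₁ : Y.Etale := Scheme.Etale.mk (v' j ≫ V.hom)
  let q : V₁ ⟶ V := MorphismProperty.Over.homMk (v' j) rfl
  obtain ⟨μ, W, hdisj, htop, hfac⟩ := hdec j
  choose i h hh using hfac
  let B₁ := (EtCoh.bc f).obj V₁
  let P : μ → B₁.left.Opens := fun a => swapHom f V₁ ⁻¹ᵁ W a
  have hP : ∀ z, ∃! a, z ∈ P a := fun z => by
    obtain ⟨a, ha⟩ : ∃ a, swapHom f V₁ z ∈ W a :=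
      TopologicalSpace.Opens.mem_iSup.1 (htop.ge trivial)
    refine ⟨a, ha, fun b hb => ?_⟩
    by_contra hne
    exact (hdisj b a hne).le_bot ⟨hb, ha⟩
  have hd' : ∀ a, ((swapHom f V₁ ∣_ W a) ≫ h a) ≫ (d (i a)).left =
      (P a).ι ≫ ((EtCoh.bc f).map q).left := fun a => by
    haveI : Mono (swapHom f V) := inferInstance
    refine (cancel_mono (swapHom f V)).1 ?_
    rw [Category.assoc, Category.assoc]
    refine (congrArg (_ ≫ ·) (hh a)).trans ?_
    refine (morphismRestrict_ι_assoc (swapHom f V₁) (W a) _).trans ?_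
    refine Eq.trans ?_ (Category.assoc _ _ _).symm
    refine congrArg ((P a).ι ≫ ·) (pullback.hom_ext ?_ ?_)
    · refine (Category.assoc _ _ _).trans ((congrArg (_ ≫ ·) ((pullback.lift_fst _ _ _).trans
        (Category.comp_id _))).trans ?_)
      refine (swapHom_fst f V₁).trans (Eq.symm ?_)
      refine (Category.assoc _ _ _).trans ((congrArg (_ ≫ ·) (swapHom_fst f V)).trans ?_)
      exact MorphismProperty.Over.w ((EtCoh.bc f).map q)
    · refine (Category.assoc _ _ _).trans ((congrArg (_ ≫ ·) (pullback.lift_snd _ _ _)).trans ?_)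
      refine (Category.assoc _ _ _).symm.trans
        ((congrArg (· ≫ v' j) (pullbackSymmetry_hom_comp_snd _ _)).trans (Eq.symm ?_))
      refine (Category.assoc _ _ _).trans ((congrArg (_ ≫ ·) (pullbackSymmetry_hom_comp_snd _ _)).trans ?_)
      exact bcFst_nat f q
  let ψ : ∀ a, sub B₁ (P a) ⟶ D (i a) := fun a =>
    MorphismProperty.Over.homMk ((swapHom f V₁ ∣_ W a) ≫ h a) (by
      refine (congrArg (_ ≫ ·) (MorphismProperty.Over.w (d (i a))).symm).trans ?_
      refine (Category.assoc _ _ _).symm.trans ((congrArg (· ≫ B.hom) (hd' a)).trans ?_)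
      exact (Category.assoc _ _ _).trans (congrArg ((P a).ι ≫ ·)
        (MorphismProperty.Over.w ((EtCoh.bc f).map q))))
  obtain ⟨T, hT⟩ := exists_glue_parts_sh F B₁ P hP fun a => F.obj.map (ψ a).op (t (i a))
  refine ⟨V₁, q, w', ⟨T, ?_⟩, hw'⟩
  show α.hom.app (op B₁) T = G.obj.map ((EtCoh.bc f).map q).op s
  refine Sets.ext_germ _ _ fun Ω _ _ ξ b => ?_
  obtain ⟨a, ha, -⟩ := hP (fibPt b)
  obtain ⟨c, hc, -⟩ := exists_fib_over (subHom B₁ (P a)) b ⟨fibPt b, ha⟩ rfl
  rw [← hc, ← Sets.germ_map, ← Sets.germ_map, ← NatTrans.naturality_apply, hT,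
    NatTrans.naturality_apply, ht, ← Functor.map_comp_apply, ← Functor.map_comp_apply, ← op_comp, ← op_comp]
  refine congrArg (fun r : sub B₁ (P a) ⟶ B => Sets.germ ξ G c (G.obj.map r.op s)) ?_
  exact MorphismProperty.Over.Hom.ext (hd' a)

theorem bc_isAlmostCocontinuous
    (hC : ∀ (V : Scheme.{u}) (v : V ⟶ Y) [AlgebraicGeometry.Etale v], BigSite.PropC (pullback.snd f v))
    (hcl : ∀ (V : Scheme.{u}) (v : V ⟶ Y) [AlgebraicGeometry.Etale v], IsClosedMap (pullback.snd f v).base) :
    BigSite.IsAlmostCocontinuous (EtCoh.bc f) Y.smallEtaleTopology X.smallEtaleTopology := by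
  intro V R hR
  let B := (EtCoh.bc f).obj V
  haveI : AlgebraicGeometry.Etale V.hom := V.prop
  let R' : Sieve V :=
    { arrows := fun {V'} g => (⊥ : Sieve ((EtCoh.bc f).obj V')) ∈
          X.smallEtaleTopology ((EtCoh.bc f).obj V') ∨ R ((EtCoh.bc f).map g)
      downward_closed := fun {Z₁ Z₂} g hg m => by
        rcases hg with hg | hg
        · left
          have := X.smallEtaleTopology.pullback_stable ((EtCoh.bc f).map m) hg
          rwa [Sieve.pullback_bot] at this
        · right
          rw [Functor.map_comp]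
          exact R.downward_closed hg _ }
  refine ⟨R', ?_, fun V' g hg => hg⟩
  rw [EtSite.mem_et_iff]
  intro y
  by_cases hy : y ∈ Set.range (pullback.fst V.hom f)
  · obtain ⟨x, hx⟩ := hy
    rw [EtSite.mem_et_iff] at hR
    obtain ⟨D, d, w, hd, hw⟩ := hR x
    haveI := etale_left d
    haveI : IsIso (swapHom f V) := inferInstance
    obtain ⟨V₁, v₁, hv₁, h, hh, hs⟩ := hC V.left V.hom D.left (d.left ≫ swapHom f V)
    obtain ⟨z, hz⟩ := h.surjective w
    let V' : Y.Etale := Scheme.Etale.mk (v₁ ≫ V.hom)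
    let q : V' ⟶ V := MorphismProperty.Over.homMk v₁ rfl
    let pr₂ := pullback.snd (pullback.snd f V.hom) v₁
    refine ⟨V', q, pr₂ z, Or.inr ?_, ?_⟩
    · let E : ((EtCoh.bc f).obj V').left ⟶ pullback (pullback.snd f V.hom) v₁ :=
        pullback.lift (((EtCoh.bc f).map q).left ≫ swapHom f V) (pullback.fst V'.hom f) (by
          refine (Category.assoc _ _ _).trans
            ((congrArg (_ ≫ ·) (pullbackSymmetry_hom_comp_snd _ _)).trans ?_)
          exact bcFst_nat f q)
      have hE : (E ≫ h) ≫ d.left = ((EtCoh.bc f).map q).left := by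
        haveI : Mono (swapHom f V) := inferInstance
        refine (cancel_mono (swapHom f V)).1 ?_
        rw [Category.assoc, Category.assoc]
        exact (congrArg (E ≫ ·) hh).trans (pullback.lift_fst _ _ _)
      let k : (EtCoh.bc f).obj V' ⟶ D := MorphismProperty.Over.homMk (E ≫ h) (by
        refine (congrArg (_ ≫ ·) (MorphismProperty.Over.w d).symm).trans ?_
        refine (Category.assoc _ _ _).symm.trans ((congrArg (· ≫ B.hom) hE).trans ?_)
        exact MorphismProperty.Over.w ((EtCoh.bc f).map q))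
      have hk : k ≫ d = (EtCoh.bc f).map q := MorphismProperty.Over.Hom.ext hE
      rw [← hk]
      exact R.downward_closed hd k
    · rw [← hx, ← hw]
      have e1 : pr₂ ≫ v₁ = h ≫ d.left ≫ pullback.fst V.hom f := by
        refine (pullback.condition (f := pullback.snd f V.hom) (g := v₁)).symm.trans ?_
        refine (congrArg (· ≫ pullback.snd f V.hom) hh.symm).trans ?_
        rw [Category.assoc, Category.assoc]
        exact congrArg (h ≫ d.left ≫ ·) (pullbackSymmetry_hom_comp_snd _ _)
      show v₁ (pr₂ z) = _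
      rw [← Scheme.Hom.comp_apply, e1, Scheme.Hom.comp_apply, Scheme.Hom.comp_apply, hz]
      rfl
  · have hclr : IsClosed (Set.range (pullback.fst V.hom f)) := by
      have e : Set.range (pullback.fst V.hom f) = Set.range (pullback.snd f V.hom) := by
        haveI : IsIso (pullbackSymmetry V.hom f).hom := inferInstance
        rw [← pullbackSymmetry_hom_comp_snd, range_comp_hom,
          (pullbackSymmetry V.hom f).hom.surjective.range_eq, Set.image_univ]
      rw [e]
      exact (hcl V.left V.hom).isClosed_range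
    let N : V.left.Opens := ⟨_, hclr.isOpen_compl⟩
    refine ⟨sub V N, subHom V N, ⟨y, hy⟩, Or.inl ?_, rfl⟩
    rw [EtSite.mem_et_iff]
    intro z
    exfalso
    refine (pullback.fst (sub V N).hom f z).2 ⟨((EtCoh.bc f).map (subHom V N)).left z, ?_⟩
    exact (Scheme.Hom.comp_apply _ _ _).symm.trans ((congrArg
      (fun r : ((EtCoh.bc f).obj (sub V N)).left ⟶ V.left => r z) (bcFst_nat f (subHom V N))).trans
        (Scheme.Hom.comp_apply _ _ _))

end Groth.Agent.Prop24
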